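import Cfsg.Agent.FixBN.TwOfBN
import Cfsg.Agent.FixBN.ExpTwo_m3
import Cfsg.Agent.FixBN.Thin_m3
import Cfsg.Agent.MinSimple.VModule
import Cfsg.Agent.Lib.SylowNormalInf
import Cfsg.Agent.FastGrp
import Cfsg.Agent.Prune
set_option linter.all false

section
prune_inst 0x7f00000000000000000000000000000000000000000000000000000000000000000000000000000000000000000000000000000000000000000000000000000000000000000000000000000000000000003fffffffffffffffffffffffffffbeffbdffffffff

-- part: UGT/U2/FOne/Mv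
section
set_option linter.all false
open scoped Cfsg.Agent.FastGrp

/-!
# (f1): automorphisms of a group with a split (B,N)-pair act on its building

* `Mv Δ G` : an automorphism of `G` with its action on the building;
* `exists_mv` : every automorphism gives one; `U_inj`, `Mv.ext_θ` : the action is determined by the automorphism.
-/

set_option autoImplicit false
set_option linter.unusedSectionVars false

namespace Cfsg.Agent.UGT.U2.FOne

open Cfsg.Agent.Tits.Core Cfsg.Agent.Tits.Core.Bldg Cfsg.Agent.Tits.Exchange Cfsg.Agent.Tits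
open Cfsg.Agent.FixBN Cfsg.Agent.FixBN.Cox

/-- An automorphism `τ` of `G`, with its action `θ` on the chambers and `φ`, `σ` on the Weyl group and on the types. -/
structure Mv {I : Type*} {M : CoxeterMatrix I} {W : Type*} [Group W] {cs : CoxeterSystem M W} {C : Type*}
    (Δ : Bldg cs C) (G : Type*) [Group G] [MulAction G C] where
  τ : G ≃* G
  θ : C → C
  φ : W ≃* W
  σ : I → I
  φ_simple : ∀ i, φ (cs.simple i) = cs.simple (σ i)
  δ_θ : ∀ x y, Δ.δ (θ x) (θ y) = φ (Δ.δ x y)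
  θ_smul : ∀ (g : G) x, θ (g • x) = τ g • θ x

section Existence

open Cfsg Cfsg.Agent.LieExceptional.BNPairCore Cfsg.Agent.Tits.OfBN
  Cfsg.Agent.Schreier.BNSch Cfsg.Agent.Tits.OppRes Cfsg.Agent.FixBN.OfBN Cfsg.Agent.FixBN.TwOfBN

variable {K : Type*} [Group K] {P : Cfsg.BNPair K} {p : ℕ} {U : Subgroup K} (S : Split P p U)

include S in
/-- **Every automorphism of a group with a split (B,N)-pair acts on the building.** -/
theorem exists_mv [Finite K] [Fact p.Prime] [hN : ((P.B ⊓ P.N).subgroupOf P.N).Normal]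
    {I : Type*} {M : CoxeterMatrix I} (e : I ≃ P.S) (cs : CoxeterSystem M (WP P))
    (hcs : ∀ i, cs.simple i = QuotientGroup.mk (⟨(e i : K), P.subset (e i).2⟩ : P.N))
    (τ : K ≃* K) : ∃ t : Mv (bldg P e cs hcs) K, t.τ = τ := by
  obtain ⟨g, hg⟩ := exists_conj S τ
  set α : K ≃* K := τ.trans (MulAut.conj g⁻¹) with hαdef
  have hα' : ∀ b, α b = g⁻¹ * τ b * g := by
    intro b
    rw [hαdef]
    simp
  have hα : ∀ b, α b ∈ P.B ↔ b ∈ P.B := fun b => by rw [hα']; exact hg b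
  -- the action on chambers
  have hθwd : ∀ a b : K, a⁻¹ * b ∈ P.B →
      (QuotientGroup.mk (τ a * g) : K ⧸ P.B) = QuotientGroup.mk (τ b * g) := by
    intro a b h
    rw [OfBN.mk_eq]
    have h1 : (τ a * g)⁻¹ * (τ b * g) = α (a⁻¹ * b) := by
      rw [hα', map_mul, map_inv]; group
    rw [h1, hα]
    exact h
  set θ₀ : K ⧸ P.B → K ⧸ P.B := Quotient.lift (fun a : K => (QuotientGroup.mk (τ a * g) : K ⧸ P.B))
    (fun a b h => hθwd a b (QuotientGroup.leftRel_apply.1 h)) with hθ₀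
  have hθ : ∀ a : K, θ₀ (QuotientGroup.mk a) = QuotientGroup.mk (τ a * g) := fun a => rfl
  have hinj : Function.Injective (fW P α) := fW_injective α hα
  have hfin : Finite (WP P) := inferInstance
  have hbij : Function.Bijective (fW P α) := Finite.injective_iff_bijective.1 hinj
  refine ⟨⟨τ, θ₀, ⟨Equiv.ofBijective _ hbij, fW_mul α hα e cs hcs⟩, sigma α hα e cs hcs, ?_, ?_, ?_⟩, rfl⟩
  · exact fun i => fW_simple α hα e cs hcs i
  · intro x y
    induction x using QuotientGroup.induction_on with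
    | _ a =>
    induction y using QuotientGroup.induction_on with
    | _ b =>
    show (bldg P e cs hcs).δ (θ₀ (QuotientGroup.mk a)) (θ₀ (QuotientGroup.mk b)) = fW P α _
    rw [hθ, hθ, bldg_δ_mk, bldg_δ_mk, fW_wt α hα]
    congr 1
    rw [hα', map_mul, map_inv]; group
  · intro k x
    induction x using QuotientGroup.induction_on with
    | _ a =>
    show θ₀ (k • QuotientGroup.mk a) = τ k • θ₀ (QuotientGroup.mk a)
    rw [OfBN.smul_mk, hθ, hθ, OfBN.smul_mk, map_mul, mul_assoc]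

end Existence

variable {I : Type*} {M : CoxeterMatrix I} {W : Type*} [Group W] {cs : CoxeterSystem M W} {C : Type*}
  {Δ : Bldg cs C} {G : Type*} [Group G] [MulAction G C] {p : ℕ}

local prefix:100 "ℓ" => cs.length

/-! ### The Sylow group determines the chamber -/

section Inj

variable (S : Sys Δ G p) [F : OppRes.Cox cs]

/-- `U x` moves all chambers of the panels of `x`. -/
theorem exists_move_adj (hth : Δ.Thick) {x y : C} {i : I} (h : Δ.δ x y = cs.simple i) :
    ∃ u ∈ S.U x, u • y ≠ y := by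
  obtain ⟨a, b, hab, ha, hb⟩ := hth x i
  have key : ∃ z, Δ.δ x z = cs.simple i ∧ z ≠ y := by
    by_cases h1 : a = y
    · exact ⟨b, hb, fun h2 => hab (h1.trans h2.symm)⟩
    · exact ⟨a, ha, h1⟩
  obtain ⟨z, hz, hne⟩ := key
  obtain ⟨u, hu, huy⟩ := S.exists_move (h.trans hz.symm)
  exact ⟨u, hu, by rw [huy]; exact hne⟩

/-- The chambers fixed by a conjugate of `U x`. -/
theorem eq_of_fix (hth : Δ.Thick) {x y : C} (h : ∀ u ∈ S.U x, u • y = y) : x = y := by
  by_contra hne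
  have h1 : Δ.δ x y ≠ 1 := fun h2 => hne (Δ.eq_of_δ_eq_one h2)
  obtain ⟨i, hi⟩ := cs.exists_leftDescent_of_ne_one h1
  have hi' : ℓ (cs.simple i * Δ.δ x y) < ℓ (Δ.δ x y) := hi
  obtain ⟨z, hxz, hzy⟩ := exists_first Δ hi'
  obtain ⟨u, hu, huz⟩ := exists_move_adj S hth hxz
  apply huz
  have hlen : ℓ (cs.simple i * (cs.simple i * Δ.δ x y)) =
      ℓ (cs.simple i) + ℓ (cs.simple i * Δ.δ x y) := by
    rw [cs.simple_mul_simple_cancel_left, cs.length_simple]
    have := cs.length_simple_mul (Δ.δ x y) i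
    omega
  refine Δ.between_unique hlen (x := x) (z := y) ?_ ?_ hxz hzy
  · have h3 := S.iso u x z
    rw [S.fix x u hu] at h3
    rw [h3, hxz]
  · have h3 := S.iso u z y
    rw [h u hu] at h3
    rw [h3, hzy]

theorem U_inj (hth : Δ.Thick) {x y : C} (h : S.U x = S.U y) : x = y :=
  eq_of_fix S hth fun u hu => S.fix y u (h ▸ hu)

end Inj

namespace Mv

variable (t : Mv Δ G)

/-- From `Tw`. -/
def ofTw (t : Tw Δ G) : Mv Δ G := ⟨t.τ, t.θ, t.φ, t.σ, t.φ_simple, t.δ_θ, t.θ_smul⟩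

theorem θ_injective : Function.Injective t.θ := by
  intro x y h
  apply Δ.eq_of_δ_eq_one
  apply t.φ.injective
  rw [← t.δ_θ, h, Δ.δ_self, map_one]

theorem θ_surjective [Finite C] : Function.Surjective t.θ :=
  Finite.injective_iff_surjective.1 t.θ_injective

theorem τ_mem_U (S : Sys Δ G p) {g : G} {x : C} (hg : g ∈ S.U x) : t.τ g ∈ S.U (t.θ x) := by
  have h1 : IsPGroup p ((S.U x).map t.τ.toMonoidHom) := (S.isP x).map _
  refine S.max (t.θ x) _ h1 ?_ (Subgroup.mem_map_of_mem _ hg)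
  rintro _ ⟨u, hu, rfl⟩
  change t.τ u • t.θ x = t.θ x
  rw [← t.θ_smul, S.fix x u hu]

theorem mem_U_iff [Finite C] [Finite G] (S : Sys Δ G p) {g : G} {x : C} :
    t.τ g ∈ S.U (t.θ x) ↔ g ∈ S.U x := by
  refine ⟨fun h => ?_, t.τ_mem_U S⟩
  have h1 : IsPGroup p ((S.U (t.θ x)).map t.τ.symm.toMonoidHom) := (S.isP _).map _
  have h2 : g ∈ (S.U (t.θ x)).map t.τ.symm.toMonoidHom := ⟨t.τ g, h, t.τ.symm_apply_apply g⟩
  refine S.max x _ h1 ?_ h2
  rintro _ ⟨u, hu, rfl⟩
  change t.τ.symm u • x = x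
  apply t.θ_injective
  rw [t.θ_smul, t.τ.apply_symm_apply]
  exact S.fix _ u hu

/-- The automorphism determines its action. -/
theorem θ_eq [Finite C] [Finite G] (S : Sys Δ G p) [F : OppRes.Cox cs] (hth : Δ.Thick) {t t' : Mv Δ G}
    (h : ∀ g, t.τ g = t'.τ g) (x : C) : t.θ x = t'.θ x := by
  apply eq_of_fix S hth
  intro u hu
  obtain ⟨v, rfl⟩ : ∃ v, t.τ v = u := t.τ.surjective u
  rw [t.mem_U_iff S] at hu
  have := t'.τ_mem_U S hu
  rw [← h] at this
  exact S.fix _ _ this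

/-- Composition. -/
def comp (t t' : Mv Δ G) : Mv Δ G where
  τ := t'.τ.trans t.τ
  θ := fun x => t.θ (t'.θ x)
  φ := t'.φ.trans t.φ
  σ := fun i => t.σ (t'.σ i)
  φ_simple i := by
    change t.φ (t'.φ (cs.simple i)) = _
    rw [t'.φ_simple, t.φ_simple]
  δ_θ x y := by
    rw [t.δ_θ, t'.δ_θ]; rfl
  θ_smul g x := by
    rw [t'.θ_smul, t.θ_smul]; rfl

/-- The identity. -/
def one (Δ : Bldg cs C) (G : Type*) [Group G] [MulAction G C] : Mv Δ G :=
  ⟨MulEquiv.refl G, id, MulEquiv.refl W, id, fun _ => rfl, fun _ _ => rfl, fun _ _ => rfl⟩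

/-- Inner automorphisms. -/
def inner (S : Sys Δ G p) (k : G) : Mv Δ G :=
  ⟨MulAut.conj k, fun x => k • x, MulEquiv.refl W, id, fun _ => rfl, fun x y => S.iso k x y, fun g x => by
    change k • g • x = (k * g * k⁻¹) • k • x
    rw [smul_smul, smul_smul]
    congr 1
    group⟩

/-- The length is invariant. -/
theorem σ_inj [F : OppRes.Cox cs] : Function.Injective t.σ := by
  intro i j h
  apply F.inj
  apply t.φ.injective
  rw [t.φ_simple, t.φ_simple, h]

theorem image_Res_eq (t : Mv Δ G) (hφ : ∀ w, t.φ w = w) [Finite C] (J : Set I) (x : C) :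
    t.θ '' Δ.Res J x = Δ.Res J (t.θ x) := by
  ext y
  constructor
  · rintro ⟨z, hz, rfl⟩
    rw [mem_Res, t.δ_θ, hφ]
    exact hz
  · intro hy
    obtain ⟨z, rfl⟩ := t.θ_surjective y
    refine ⟨z, ?_, rfl⟩
    rw [mem_Res, t.δ_θ, hφ] at hy
    exact hy

end Mv

end Cfsg.Agent.UGT.U2.FOne
end

-- part: Mrg/Omega/ML/LieRow/Bld
section
set_option linter.all false
open scoped Cfsg.Agent.FastGrp

section


/-!
# (ML), the rows of Lie type in characteristic two: the building part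

`K` is a simple normal subgroup of the finite group `H`, seen through its building `Δ` (`FixBN.Sys`), `T` is a Sylow
2-subgroup of `H` with `K T = H` and `C_H(K) = 1`.

* `tp`, `delta_mem_tp`, `exists_smul`, `eq_top_of_tp` : Tits' lemma on the overgroups of `U c`;
* `HAct` : the action of `H` on the building; `exists_hact`;
* `OppSyl T` : either `T` is in a unique maximal subgroup of `H`, or there is a Sylow 2-subgroup `T'` such that
  `⋂ O₂(R)`, over all proper `R ≥ T`, meets all proper `R' ≥ T'` trivially;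
* `oppSyl_of_hact`.
-/

set_option autoImplicit false
set_option linter.unusedSectionVars false

namespace Cfsg.Agent.Omega.ML.LieRow

open Cfsg.Agent.Tits.Core Cfsg.Agent.Tits.Core.Bldg Cfsg.Agent.Tits.Exchange Cfsg.Agent.Tits
open Cfsg.Agent.FixBN Cfsg.Agent.FixBN.Cox Cfsg.Agent.UGT.U2.FOne Cfsg.Agent.ZN

variable {I : Type*} {M : CoxeterMatrix I} {W : Type*} [Group W] {cs : CoxeterSystem M W} {C : Type*}
  {Δ : Bldg cs C}

local prefix:100 "ℓ" => cs.length

/-! ### Tits' lemma -/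

section Tits

variable {G : Type*} [Group G] [MulAction G C] {p : ℕ}

variable (Δ) in
/-- the types `i` such that `X` moves `c` inside its `i`-panel -/
def tp (X : Subgroup G) (c : C) : Set I := {i | ∃ g ∈ X, Δ.δ c (g • c) = cs.simple i}

variable (S : Sys Δ G p) [F : OppRes.Cox cs]

include S

/-- `X` is transitive on the panels with type in `tp X c` -/
theorem exists_smul_pan {X : Subgroup G} {c : C} (hX : S.U c ≤ X) {i : I} (hi : i ∈ tp Δ X c) {y : C}
    (hy : Δ.δ c y = cs.simple i) : ∃ g ∈ X, g • c = y := by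
  obtain ⟨g, hg, hgc⟩ := hi
  obtain ⟨u, hu, huy⟩ := S.exists_move (hgc.trans hy.symm)
  exact ⟨u * g, mul_mem (hX hu) hg, by rw [mul_smul, huy]⟩

/-- **Tits' lemma** -/
theorem delta_mem_tp (hth : Δ.Thick) {X : Subgroup G} {c : C} (hX : S.U c ≤ X) :
    ∀ g ∈ X, Δ.δ c (g • c) ∈ WJ cs (tp Δ X c) := by
  have key : ∀ n : ℕ, ∀ g ∈ X, ℓ (Δ.δ c (g • c)) = n → Δ.δ c (g • c) ∈ WJ cs (tp Δ X c) := by
    intro n
    induction n using Nat.strong_induction_on with
    | _ n ih =>
      intro g hg hn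
      by_cases h1 : Δ.δ c (g • c) = 1
      · rw [h1]; exact one_mem _
      obtain ⟨i, hi⟩ := cs.exists_leftDescent_of_ne_one h1
      have hi' : ℓ (cs.simple i * Δ.δ c (g • c)) < ℓ (Δ.δ c (g • c)) := hi
      obtain ⟨y, hcy, hyg⟩ := exists_first Δ hi'
      -- a third chamber of the panel
      obtain ⟨a, b, hab, ha, hb⟩ := hth c i
      obtain ⟨z, hz, hzy⟩ : ∃ z, Δ.δ c z = cs.simple i ∧ z ≠ y := by
        by_cases h2 : a = y
        · exact ⟨b, hb, fun h3 => hab (h2.trans h3.symm)⟩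
        · exact ⟨a, ha, h2⟩
      -- `z` is at the same distance from `g • c` as `c`
      have hyz : Δ.δ y z = cs.simple i := by
        have h3 : z ∈ Δ.Pan i c := Or.inr hz
        have h4 : y ∈ Δ.Pan i c := Or.inr hcy
        exact Δ.δ_eq_of_mem_Pan h4 h3 (fun h => hzy h.symm)
      have hd : Δ.δ (g • c) z = Δ.δ (g • c) c := by
        have h3 : Δ.δ (g • c) y = (Δ.δ c (g • c))⁻¹ * cs.simple i := by
          rw [Δ.symm y (g • c), hyg, mul_inv_rev, cs.inv_simple]
        have h4 : ℓ (Δ.δ (g • c) y) < ℓ (Δ.δ (g • c) y * cs.simple i) := by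
          rw [h3, mul_assoc, cs.simple_mul_simple_self, mul_one, cs.length_inv]
          have h5 := cs.length_inv (cs.simple i * Δ.δ c (g • c))
          rw [mul_inv_rev, cs.inv_simple] at h5
          rw [h5]
          exact hi'
        rw [Δ.step_lt (g • c) y z i hyz h4, h3, mul_assoc, cs.simple_mul_simple_self, mul_one,
          ← Δ.symm c (g • c)]
      obtain ⟨u, hu, huz⟩ := S.exists_move hd.symm
      have huX : u ∈ X := by
        have h3 : g * (g⁻¹ * u * g) * g⁻¹ ∈ S.U (g • c) := by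
          have : g * (g⁻¹ * u * g) * g⁻¹ = u := by group
          rwa [this]
        have h4 := hX ((S.conj_mem_U_iff).1 h3)
        have h5 := mul_mem (mul_mem hg h4) (inv_mem hg)
        have : g * (g⁻¹ * u * g) * g⁻¹ = u := by group
        rwa [this] at h5
      have hiJ : i ∈ tp Δ X c := ⟨u, huX, by rw [huz]; exact hz⟩
      obtain ⟨k, hk, hky⟩ := exists_smul_pan S hX hiJ hcy
      have h3 : Δ.δ c ((k⁻¹ * g) • c) = cs.simple i * Δ.δ c (g • c) := by
        rw [← hyg, ← hky, ← S.iso k c, smul_smul]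
        congr 2
        group
      have h4 := ih _ (by rw [← hn]; exact hi') (k⁻¹ * g) (mul_mem (inv_mem hk) hg) (by rw [h3])
      rw [h3] at h4
      have h5 := mul_mem (simple_mem_WJ cs hiJ) h4
      rwa [cs.simple_mul_simple_cancel_left] at h5
  exact fun g hg => key _ g hg rfl

/-- `X` is transitive on the chambers of `Res (tp X c) c` -/
theorem exists_smul {X : Subgroup G} {c : C} (hX : S.U c ≤ X) {y : C} (hy : y ∈ Δ.Res (tp Δ X c) c) :
    ∃ g ∈ X, g • c = y := by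
  refine Δ.Res_induction (p := fun y => ∃ g ∈ X, g • c = y) ⟨1, one_mem _, one_smul _ _⟩ ?_ hy
  rintro y - z i hi hyz ⟨g, hg, rfl⟩
  have h1 : Δ.δ c (g⁻¹ • z) = cs.simple i := by
    rw [← hyz, ← S.iso g c, smul_inv_smul]
  obtain ⟨k, hk, hkz⟩ := exists_smul_pan S hX hi h1
  exact ⟨g * k, mul_mem hg hk, by rw [mul_smul, hkz, smul_inv_smul]⟩

/-- `G` is transitive on the chambers -/
theorem exists_smul_top (hth : Δ.Thick) (c y : C) : ∃ g : G, g • c = y := by
  have hX : S.U c ≤ (⊤ : Subgroup G) := le_top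
  have h1 : tp Δ (⊤ : Subgroup G) c = Set.univ := by
    rw [Set.eq_univ_iff_forall]
    intro i
    -- a chamber opposite to two chambers of a panel
    obtain ⟨a, b, hab, ha, hb⟩ := hth c i
    have hba : Δ.δ a b = cs.simple i := Δ.δ_eq_of_mem_Pan (Or.inr ha) (Or.inr hb) hab
    have hac : Δ.δ a c = cs.simple i := Δ.δ_symm_simple ha
    obtain ⟨u, -, hu⟩ := S.exists_move (hac.trans hba.symm)
    exact ⟨u, Subgroup.mem_top _, by rw [hu]; exact hb⟩
  obtain ⟨g, -, hg⟩ := exists_smul S hX (y := y) (by rw [h1, Δ.Res_univ]; trivial)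
  exact ⟨g, hg⟩

/-- `X` is the whole group if all types occur -/
theorem eq_top_of_tp (hth : Δ.Thick) [hs : IsSimpleGroup G] [Nonempty I] {X : Subgroup G} {c : C} (hX : S.U c ≤ X)
    (h : tp Δ X c = Set.univ) : X = ⊤ := by
  have h1 : ∀ y : C, S.U y ≤ X := by
    intro y u hu
    obtain ⟨g, hg, rfl⟩ := exists_smul S hX (y := y) (by rw [h, Δ.Res_univ]; trivial)
    have h3 : g * (g⁻¹ * u * g) * g⁻¹ ∈ S.U (g • c) := by
      have : g * (g⁻¹ * u * g) * g⁻¹ = u := by group
      rwa [this]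
    have h4 := hX ((S.conj_mem_U_iff).1 h3)
    have h5 := mul_mem (mul_mem hg h4) (inv_mem hg)
    have : g * (g⁻¹ * u * g) * g⁻¹ = u := by group
    rwa [this] at h5
  have h2 : (⨆ y, S.U y : Subgroup G).Normal := by
    constructor
    intro n hn g
    refine Subgroup.iSup_induction (S.U) (C := fun n => g * n * g⁻¹ ∈ (⨆ y, S.U y : Subgroup G)) hn ?_ ?_ ?_
    · intro y u hu
      exact (le_iSup S.U (g • y)) (S.conj_mem_U hu g)
    · simp
    · intro a b ha hb
      have := mul_mem ha hb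
      have e : g * a * g⁻¹ * (g * b * g⁻¹) = g * (a * b) * g⁻¹ := by group
      rwa [e] at this
  rcases hs.eq_bot_or_eq_top_of_normal _ h2 with h3 | h3
  · exfalso
    obtain ⟨i⟩ := (inferInstance : Nonempty I)
    obtain ⟨a, b, hab, ha, hb⟩ := hth c i
    obtain ⟨u, hu, huy⟩ := exists_move_adj S hth ha
    have h4 : u ∈ (⨆ y, S.U y : Subgroup G) := (le_iSup S.U c) hu
    rw [h3, Subgroup.mem_bot] at h4
    apply huy
    rw [h4, one_smul]
  · rw [eq_top_iff, ← h3]
    exact iSup_le h1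

/-- `G` is faithful on the chambers -/
theorem eq_one_of_smul (hth : Δ.Thick) [hs : IsSimpleGroup G] [Nonempty I] [Nonempty C] {g : G} (h : ∀ x : C, g • x = x) :
    g = 1 := by
  have h1 : (MulAction.toPermHom G C).ker.Normal := inferInstance
  rcases hs.eq_bot_or_eq_top_of_normal _ h1 with h3 | h3
  · have h4 : g ∈ (MulAction.toPermHom G C).ker := by
      rw [MonoidHom.mem_ker]
      ext x
      exact h x
    rwa [h3, Subgroup.mem_bot] at h4
  · exfalso
    obtain ⟨i⟩ := (inferInstance : Nonempty I)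
    obtain ⟨c⟩ := (inferInstance : Nonempty C)
    obtain ⟨a, b, hab, ha, hb⟩ := hth c i
    obtain ⟨u, hu, huy⟩ := exists_move_adj S hth ha
    have h4 : u ∈ (MulAction.toPermHom G C).ker := by rw [h3]; trivial
    rw [MonoidHom.mem_ker] at h4
    exact huy (Equiv.ext_iff.1 h4 a)

end Tits

/-! ### The action of `H` -/

variable {H : Type*} [Group H]

/-- the action of `H` on the building of its normal subgroup `K` -/
structure HAct (Δ : Bldg cs C) (K : Subgroup H) [MulAction K C] where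
  θ : H → C → C
  φ : H → W ≃* W
  σ : H → I → I
  θ_mul : ∀ g h x, θ (g * h) x = θ g (θ h x)
  θ_K : ∀ (k : K) x, θ k x = k • x
  φ_simple : ∀ h i, φ h (cs.simple i) = cs.simple (σ h i)
  δ_θ : ∀ h x y, Δ.δ (θ h x) (θ h y) = φ h (Δ.δ x y)

/-- the action exists -/
theorem exists_hact {K : Subgroup H} [K.Normal] [MulAction K C] {p : ℕ} (S : Sys Δ K p) [F : OppRes.Cox cs]
    [Finite C] [Finite H] (hth : Δ.Thick) (hmv : ∀ τ : K ≃* K, ∃ t : Mv Δ K, t.τ = τ) :
    Nonempty (HAct Δ K) := by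
  choose t ht using fun h : H => hmv (MulAut.conjNormal h)
  refine ⟨⟨fun h => (t h).θ, fun h => (t h).φ, fun h => (t h).σ, ?_, ?_, fun h => (t h).φ_simple,
    fun h => (t h).δ_θ⟩⟩
  · intro g h x
    refine Mv.θ_eq S hth (t := t (g * h)) (t' := Mv.comp (t g) (t h)) ?_ x
    intro k
    change (t (g * h)).τ k = (t g).τ ((t h).τ k)
    rw [ht, ht, ht, map_mul]
    rfl
  · intro k x
    refine Mv.θ_eq S hth (t := t k) (t' := Mv.inner S k) ?_ x
    intro g
    change (t (k : H)).τ g = k * g * k⁻¹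
    rw [ht]
    exact Subtype.ext (MulAut.conjNormal_apply (k : H) g)

namespace HAct

variable {K : Subgroup H} [MulAction K C] (A : HAct Δ K)

theorem θ_one (x : C) : A.θ 1 x = x := by
  have := A.θ_K 1 x
  rwa [one_smul] at this

theorem θ_inv_θ (h : H) (x : C) : A.θ h⁻¹ (A.θ h x) = x := by
  rw [← A.θ_mul, inv_mul_cancel, A.θ_one]

theorem θ_θ_inv (h : H) (x : C) : A.θ h (A.θ h⁻¹ x) = x := by
  rw [← A.θ_mul, mul_inv_cancel, A.θ_one]

theorem θ_inj (h : H) {x y : C} (e : A.θ h x = A.θ h y) : x = y := by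
  rw [← A.θ_inv_θ h x, e, A.θ_inv_θ]

theorem φ_mul [Nonempty C] (g h : H) (w : W) : A.φ (g * h) w = A.φ g (A.φ h w) := by
  obtain ⟨x⟩ := (inferInstance : Nonempty C)
  obtain ⟨y, rfl⟩ := Δ.exists_δ x w
  rw [← A.δ_θ, ← A.δ_θ, ← A.δ_θ, A.θ_mul, A.θ_mul]

theorem φ_K [Nonempty C] {p : ℕ} (S : Sys Δ K p) (k : K) (w : W) : A.φ k w = w := by
  obtain ⟨x⟩ := (inferInstance : Nonempty C)
  obtain ⟨y, rfl⟩ := Δ.exists_δ x w
  rw [← A.δ_θ, A.θ_K, A.θ_K, S.iso]

theorem φ_one [Nonempty C] (w : W) : A.φ 1 w = w := by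
  obtain ⟨x⟩ := (inferInstance : Nonempty C)
  obtain ⟨y, rfl⟩ := Δ.exists_δ x w
  rw [← A.δ_θ, A.θ_one, A.θ_one]

theorem length_φ [Nonempty C] (h : H) (w : W) : ℓ (A.φ h w) = ℓ w := by
  apply le_antisymm (length_map_le (A.φ_simple h) w)
  have h1 := length_map_le (A.φ_simple h⁻¹) (A.φ h w)
  rwa [← A.φ_mul, inv_mul_cancel, A.φ_one] at h1

variable [F : OppRes.Cox cs]

theorem φ_w0 [Nonempty C] (h : H) : A.φ h (w0 cs) = w0 cs := by
  have h1 := F.len_w0_mul (A.φ h (w0 cs))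
  rw [A.length_φ] at h1
  have h2 : w0 cs * A.φ h (w0 cs) = 1 := cs.length_eq_zero_iff.1 (by omega)
  rw [eq_inv_of_mul_eq_one_right h2, F.w0_inv]

theorem σ_mul [Nonempty C] (g h : H) (i : I) : A.σ (g * h) i = A.σ g (A.σ h i) := by
  apply F.inj
  rw [← A.φ_simple, ← A.φ_simple, ← A.φ_simple, A.φ_mul]

theorem σ_K [Nonempty C] {p : ℕ} (S : Sys Δ K p) (k : K) (i : I) : A.σ k i = i := by
  apply F.inj
  rw [← A.φ_simple, A.φ_K S]

theorem σ_one [Nonempty C] (i : I) : A.σ 1 i = i := by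
  apply F.inj
  rw [← A.φ_simple, A.φ_one]

theorem σ_inv_σ [Nonempty C] (h : H) (i : I) : A.σ h⁻¹ (A.σ h i) = i := by
  rw [← A.σ_mul, inv_mul_cancel, A.σ_one]

theorem σ_op [Nonempty C] (h : H) (i : I) : A.σ h (op cs i) = op cs (A.σ h i) := by
  apply F.inj
  rw [← A.φ_simple, F.op, map_mul, map_mul, A.φ_w0, A.φ_simple, F.op]

/-- `J` is invariant -/
def Inv (J : Set I) : Prop := ∀ (h : H), ∀ i ∈ J, A.σ h i ∈ J

variable {A}

theorem Inv.φ_mem {J : Set I} (hJ : A.Inv J) (h : H) {w : W} (hw : w ∈ WJ cs J) : A.φ h w ∈ WJ cs J :=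
  mem_WJ_map (A.φ_simple h) (hJ h) hw

theorem Inv.op [Nonempty C] {J : Set I} (hJ : A.Inv J) : A.Inv (op cs '' J) := by
  rintro h _ ⟨i, hi, rfl⟩
  exact ⟨A.σ h i, hJ h i hi, (A.σ_op h i).symm⟩

/-- the stabiliser of the residue of an invariant type -/
def Stb (J : Set I) (hJ : A.Inv J) (c : C) : Subgroup H where
  carrier := {h | Δ.δ c (A.θ h c) ∈ WJ cs J}
  one_mem' := by
    change Δ.δ c (A.θ 1 c) ∈ WJ cs J
    rw [A.θ_one, Δ.δ_self]
    exact one_mem _
  mul_mem' := by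
    intro g h hg hh
    change Δ.δ c (A.θ (g * h) c) ∈ WJ cs J
    rw [A.θ_mul]
    have h1 : Δ.δ (A.θ g c) (A.θ g (A.θ h c)) ∈ WJ cs J := by
      rw [A.δ_θ]
      exact hJ.φ_mem g hh
    exact OppRes.delta_mem_of_mem hg h1
  inv_mem' := by
    intro h hh
    change Δ.δ c (A.θ h⁻¹ c) ∈ WJ cs J
    have h1 : Δ.δ (A.θ h⁻¹ (A.θ h c)) (A.θ h⁻¹ c) ∈ WJ cs J := by
      rw [A.δ_θ]
      apply hJ.φ_mem
      rw [Δ.symm c (A.θ h c)]
      exact inv_mem hh
    rwa [A.θ_inv_θ] at h1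

theorem mem_Stb {J : Set I} {hJ : A.Inv J} {c : C} {h : H} : h ∈ Stb J hJ c ↔ Δ.δ c (A.θ h c) ∈ WJ cs J := Iff.rfl

end HAct

end Cfsg.Agent.Omega.ML.LieRow

end

section


/-!
# (ML), the rows of Lie type in characteristic two: the opposite Sylow group

* `OppSyl T` : either `T` is in a unique maximal subgroup of `H`, or there is a Sylow 2-subgroup `T'` such that
  `⋂ O₂(R)`, over all proper `R ≥ T`, meets all proper `R' ≥ T'` trivially;
* `oppSyl_of_hact` : `K` simple, with a building, `C_H(K) = 1`, `K T = H` implies `OppSyl T`.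
-/

set_option autoImplicit false
set_option linter.unusedSectionVars false

namespace Cfsg.Agent.Omega.ML.LieRow

open Cfsg.Agent.Tits.Core Cfsg.Agent.Tits.Core.Bldg Cfsg.Agent.Tits.Exchange Cfsg.Agent.Tits
open Cfsg.Agent.FixBN Cfsg.Agent.FixBN.Cox Cfsg.Agent.UGT.U2.FOne Cfsg.Agent.ZN

/-- Either `T` is in a unique maximal subgroup of `H`, or there is a Sylow 2-subgroup `T'` such that `⋂ O₂(R)`, over all
proper `R ≥ T`, meets all proper `R' ≥ T'` trivially. -/
def OppSyl {H : Type*} [Group H] (T : Subgroup H) : Prop :=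
  (∃ N : Subgroup H, N ≠ ⊤ ∧ ∀ R : Subgroup H, T ≤ R → R ≠ ⊤ → R ≤ N) ∨
  (∃ T' : Subgroup H, IsPGroup 2 T' ∧ ¬ 2 ∣ T'.index ∧
    ∀ x : H, (∀ R : Subgroup H, T ≤ R → R ≠ ⊤ → x ∈ o2 R) →
      ∀ R' : Subgroup H, T' ≤ R' → R' ≠ ⊤ → x ∈ R' → x = 1)

variable {I : Type*} {M : CoxeterMatrix I} {W : Type*} [Group W] {cs : CoxeterSystem M W} {C : Type*}
  {Δ : Bldg cs C}

local prefix:100 "ℓ" => cs.length

variable {H : Type*} [Group H] {K : Subgroup H} [MulAction K C] (A : HAct Δ K)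
  [F : OppRes.Cox cs] (S : Sys Δ K 2)

include A S

theorem θ_conj [K.Normal] (h : H) (k : K) (x : C) : A.θ h (k • x) = MulAut.conjNormal h k • A.θ h x := by
  rw [← A.θ_K, ← A.θ_K, ← A.θ_mul, ← A.θ_mul, MulAut.conjNormal_apply]
  congr 1
  group

theorem conj_mem_U [K.Normal] (h : H) {k : K} {x : C} (hk : k ∈ S.U x) : MulAut.conjNormal h k ∈ S.U (A.θ h x) := by
  have h1 : IsPGroup 2 ((S.U x).map (MulAut.conjNormal h : MulAut K).toMonoidHom) := (S.isP x).map _
  refine S.max _ _ h1 ?_ (Subgroup.mem_map_of_mem _ hk)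
  rintro _ ⟨v, hv, rfl⟩
  change MulAut.conjNormal h v • A.θ h x = A.θ h x
  rw [← θ_conj A S, S.fix x v hv]

/-- `T` fixes a chamber -/
theorem exists_chamber [K.Normal] [Finite H] [Finite C] (hth : Δ.Thick) {T : Subgroup H} (hT : IsPGroup 2 T)
    (hTi : ¬ 2 ∣ T.index) : ∃ c : C, (∀ t ∈ T, A.θ t c = c) ∧ S.U c = T.subgroupOf K := by
  have hV : IsPGroup 2 (T.subgroupOf K) := hT.comap_of_injective _ K.subtype_injective
  obtain ⟨c, hc⟩ := S.exists_fix _ hV
  have h1 : T.subgroupOf K ≤ S.U c := S.max c _ hV hc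
  have hUc : S.U c = T.subgroupOf K := by
    have : Fact (Nat.Prime 2) := ⟨Nat.prime_two⟩
    have h2 : ¬ 2 ∣ (T.subgroupOf K).index :=
      Lib.SylowNormalInf.not_dvd_relIndex (hT.toSylow hTi) K
    have h3 := ((hV.toSylow h2 : Sylow 2 K).is_maximal' (S.isP c) h1)
    exact h3
  refine ⟨c, fun t ht => ?_, hUc⟩
  apply U_inj S hth
  apply le_antisymm
  · intro u hu
    have h2 := conj_mem_U A S t⁻¹ hu
    rw [A.θ_inv_θ, hUc, Subgroup.mem_subgroupOf, MulAut.conjNormal_apply, inv_inv] at h2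
    rw [hUc, Subgroup.mem_subgroupOf]
    have h3 := mul_mem (mul_mem ht h2) (inv_mem ht)
    have e : t * (t⁻¹ * (u : H) * t) * t⁻¹ = u := by group
    rwa [e] at h3
  · intro u hu
    rw [hUc, Subgroup.mem_subgroupOf] at hu
    have h2 : (MulAut.conjNormal t⁻¹ u : K) ∈ S.U c := by
      rw [hUc, Subgroup.mem_subgroupOf, MulAut.conjNormal_apply, inv_inv]
      exact mul_mem (mul_mem (inv_mem ht) hu) ht
    have h3 := conj_mem_U A S t h2
    have e : (MulAut.conjNormal t (MulAut.conjNormal t⁻¹ u) : K) = u := by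
      rw [← MulAut.mul_apply, ← map_mul, mul_inv_cancel, map_one, MulAut.one_apply]
    rwa [e] at h3

section Over

variable [Nonempty C] {T R : Subgroup H} (hKT : K ⊔ T = ⊤)

include hKT

theorem exists_kt [K.Normal] (h : H) : ∃ k : K, ∃ t ∈ T, h = k * t := by
  have h1 : h ∈ K ⊔ T := by rw [hKT]; trivial
  rw [Subgroup.mem_sup_of_normal_left] at h1
  obtain ⟨k, hk, t, ht, rfl⟩ := h1
  exact ⟨⟨k, hk⟩, t, ht, rfl⟩

/-- invariance under `T` is invariance under `H` -/
theorem inv_of_T [K.Normal] {J : Set I} (hJ : ∀ t ∈ T, ∀ i ∈ J, A.σ t i ∈ J) : A.Inv J := by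
  intro h i hi
  obtain ⟨k, t, ht, rfl⟩ := exists_kt A S hKT h
  rw [A.σ_mul, A.σ_K S]
  exact hJ t ht i hi

/-- **the overgroups of `T`** -/
theorem over_T [K.Normal] [IsSimpleGroup K] [Nonempty I] (hth : Δ.Thick) {c : C} (hc : ∀ t ∈ T, A.θ t c = c)
    (hU : S.U c ≤ R.subgroupOf K) (hTR : T ≤ R) (hR : R ≠ ⊤) :
    ∃ J : Set I, A.Inv J ∧ J ≠ Set.univ ∧ ∀ h ∈ R, Δ.δ c (A.θ h c) ∈ WJ cs J := by
  refine ⟨tp Δ (R.subgroupOf K) c, ?_, ?_, ?_⟩
  · apply inv_of_T A S hKT
    rintro t ht i ⟨g, hg, hgc⟩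
    refine ⟨MulAut.conjNormal t g, ?_, ?_⟩
    · rw [Subgroup.mem_subgroupOf, MulAut.conjNormal_apply]
      exact mul_mem (mul_mem (hTR ht) hg) (inv_mem (hTR ht))
    · have h1 := θ_conj A S t g c
      rw [hc t ht] at h1
      have h2 : Δ.δ c (A.θ t (g • c)) = Δ.δ (A.θ t c) (A.θ t (g • c)) := by rw [hc t ht]
      rw [← h1, h2, A.δ_θ, hgc, A.φ_simple]
  · intro h1
    have h2 := eq_top_of_tp S hth hU h1
    apply hR
    rw [eq_top_iff, ← hKT]
    exact sup_le (Subgroup.subgroupOf_eq_top.1 h2) hTR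
  · intro h hh
    obtain ⟨k, t, ht, rfl⟩ := exists_kt A S hKT h
    rw [A.θ_mul, hc t ht, A.θ_K]
    refine delta_mem_tp S hth hU k ?_
    rw [Subgroup.mem_subgroupOf]
    have h1 := mul_mem hh (inv_mem (hTR ht))
    rwa [mul_inv_cancel_right] at h1

omit hKT in
/-- the stabiliser of a residue of proper invariant type is a proper overgroup of `T` -/
theorem Stb_ne_top (hth : Δ.Thick) {J : Set I} (hJ : A.Inv J) (hJu : J ≠ Set.univ) (c : C) :
    HAct.Stb J hJ c ≠ ⊤ := by
  intro h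
  obtain ⟨i, hi⟩ := (Set.ne_univ_iff_exists_notMem J).1 hJu
  obtain ⟨y, -, -, hy, -⟩ := hth c i
  obtain ⟨g, hg⟩ := exists_smul_top S hth c y
  have h1 : (g : H) ∈ HAct.Stb J hJ c := by rw [h]; trivial
  rw [HAct.mem_Stb, A.θ_K, hg, hy] at h1
  apply hi
  apply F.descent_mem J _ h1 i
  rw [cs.simple_mul_simple_self, cs.length_one, cs.length_simple]
  exact Nat.one_pos

omit hKT in
theorem le_Stb {J : Set I} (hJ : A.Inv J) {c : C} (hc : ∀ t ∈ T, A.θ t c = c) : T ≤ HAct.Stb J hJ c := by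
  intro t ht
  rw [HAct.mem_Stb, hc t ht, Δ.δ_self]
  exact one_mem _

omit hKT in
/-- `O₂` of the stabiliser of a residue fixes the chambers of the residue -/
theorem fix_of_o2 [K.Normal] [Finite H] (hth : Δ.Thick) (hT : IsPGroup 2 T) (hTi : ¬ 2 ∣ T.index) {J : Set I} (hJ : A.Inv J)
    {c : C} (hc : ∀ t ∈ T, A.θ t c = c) {x : H} (hx : x ∈ o2 (HAct.Stb J hJ c)) {y : C} (hy : y ∈ Δ.Res J c) :
    A.θ x y = y := by
  obtain ⟨g, rfl⟩ := exists_smul_top S hth c y
  have hg : (g : H) ∈ HAct.Stb J hJ c := by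
    rw [HAct.mem_Stb, A.θ_K]
    exact hy
  have h1 : (g : H)⁻¹ * x * (g : H) ∈ o2 (HAct.Stb J hJ c) := by
    have h2 := MinSimple.VModule.le_normalizer_o2 (HAct.Stb J hJ c) (inv_mem hg)
    have h3 := (Subgroup.mem_normalizer_iff.1 h2 x).1 hx
    rwa [inv_inv] at h3
  have h2 : ¬ 2 ∣ T.relIndex (HAct.Stb J hJ c) := fun h =>
    hTi (h.trans (Subgroup.relIndex_dvd_index_of_le (le_Stb A S hJ hc)))
  have h3 := hc _ (MinSimple.VModule.o2_le_of_sylow hT h2 h1)
  have h4 : A.θ (g : H) (A.θ ((g : H)⁻¹ * x * (g : H)) c) = A.θ x (g • c) := by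
    rw [← A.θ_mul, ← A.θ_K, ← A.θ_mul]
    congr 1
    group
  rw [← h4, h3, A.θ_K]

end Over

/-- **The opposite Sylow group.** -/
theorem oppSyl_of_hact [K.Normal] [Finite H] [Finite C] [Nonempty I] [IsSimpleGroup K] (hth : Δ.Thick)
    (hC : ∀ h : H, (∀ k ∈ K, h * k = k * h) → h = 1) {T : Subgroup H} (hT : IsPGroup 2 T) (hTi : ¬ 2 ∣ T.index)
    (hKT : K ⊔ T = ⊤) : OppSyl T := by
  obtain ⟨c, hc, hUc⟩ := exists_chamber A S hth hT hTi
  have : Nonempty C := ⟨c⟩
  by_cases htr : ∀ i j : I, ∃ t ∈ T, A.σ t i = j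
  · -- one orbit
    left
    have hE : A.Inv (∅ : Set I) := fun _ i hi => absurd hi (Set.notMem_empty i)
    refine ⟨HAct.Stb ∅ hE c, Stb_ne_top A S hth hE (Set.empty_ne_univ) c, ?_⟩
    intro R hTR hR
    have hU : S.U c ≤ R.subgroupOf K := by
      rw [hUc]
      exact fun k hk => hTR hk
    obtain ⟨J, hJ, hJu, hRJ⟩ := over_T A S hKT hth hc hU hTR hR
    have hJe : J = ∅ := by
      by_contra hne
      obtain ⟨i, hi⟩ := Set.nonempty_iff_ne_empty.2 hne
      apply hJu
      rw [Set.eq_univ_iff_forall]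
      intro j
      obtain ⟨t, -, rfl⟩ := htr i j
      exact hJ t i hi
    subst hJe
    exact hRJ
  · right
    push Not at htr
    obtain ⟨i₀, j₀, hij⟩ := htr
    obtain ⟨d, hd⟩ := Δ.exists_δ c (w0 cs)
    -- the opposite Sylow group
    have hV : IsPGroup 2 ((S.U d).map K.subtype) := (S.isP d).map _
    obtain ⟨P, hP⟩ := hV.exists_le_sylow
    have : Fact (Nat.Prime 2) := ⟨Nat.prime_two⟩
    refine ⟨P, P.isPGroup', P.not_dvd_index, ?_⟩
    intro x hx R' hPR' hR' hxR'
    -- `P` fixes `d`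
    have hPd : ∀ t ∈ (P : Subgroup H), A.θ t d = d := by
      obtain ⟨e, he, hUe⟩ := exists_chamber A S hth P.isPGroup' P.not_dvd_index
      have h1 : d = e := by
        apply eq_of_fix S hth
        intro u hu
        apply S.fix
        rw [hUe, Subgroup.mem_subgroupOf]
        exact hP ⟨u, hu, rfl⟩
      rw [h1]
      exact he
    have hKP : K ⊔ (P : Subgroup H) = ⊤ := by
      obtain ⟨g, hg⟩ := MulAction.exists_smul_eq H (hT.toSylow hTi) P
      rw [eq_top_iff]
      intro h _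
      have h1 : g⁻¹ * h * g ∈ K ⊔ T := by rw [hKT]; trivial
      rw [Subgroup.mem_sup_of_normal_left] at h1 ⊢
      obtain ⟨k, hk, t, ht, hkt⟩ := h1
      refine ⟨g * k * g⁻¹, Subgroup.Normal.conj_mem inferInstance k hk g, g * t * g⁻¹, ?_, ?_⟩
      · rw [← hg]
        exact ⟨t, ht, rfl⟩
      · have : g * k * g⁻¹ * (g * t * g⁻¹) = g * (k * t) * g⁻¹ := by group
        rw [this, hkt]
        group
    -- the type of `R'`
    have hUd : S.U d ≤ R'.subgroupOf K := by
      intro u hu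
      exact hPR' (hP ⟨u, hu, rfl⟩)
    obtain ⟨L, hL, hLu, hRL⟩ := over_T A S hKP hth hPd hUd hPR' hR'
    -- `x` fixes the residues
    have hxJ : ∀ J : Set I, A.Inv J → J ≠ Set.univ → ∀ y ∈ Δ.Res J c, A.θ x y = y := by
      intro J hJ hJu y hy
      exact fix_of_o2 A S hth hT hTi hJ hc (hx _ (le_Stb A S hJ hc) (Stb_ne_top A S hth hJ hJu c)) hy
    -- `x` fixes the panels at `c`
    have hxP : ∀ i, ∀ y ∈ Δ.Pan i c, A.θ x y = y := by
      intro i y hy
      set O : Set I := {j | ∃ t ∈ T, A.σ t i = j} with hO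
      have hOi : A.Inv O := by
        apply inv_of_T A S hKT
        rintro t ht _ ⟨s, hs, rfl⟩
        exact ⟨t * s, mul_mem ht hs, A.σ_mul t s i⟩
      have hiO : i ∈ O := ⟨1, one_mem _, A.σ_one i⟩
      refine hxJ O hOi ?_ y (Δ.Pan_subset_Res hiO c hy)
      intro h1
      obtain ⟨s, hs, hs'⟩ : i₀ ∈ O := by rw [h1]; trivial
      obtain ⟨t, ht, ht'⟩ : j₀ ∈ O := by rw [h1]; trivial
      apply hij (t * s⁻¹) (mul_mem ht (inv_mem hs))
      rw [A.σ_mul, ← hs', A.σ_inv_σ, ht']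
    have hxc : A.θ x c = c := hxP i₀ c (Δ.self_mem_Pan i₀ c)
    -- `x` preserves the types
    have hφ : ∀ w, A.φ x w = w := by
      have h1 : ∀ i, A.φ x (cs.simple i) = cs.simple i := by
        intro i
        obtain ⟨y, -, -, hy, -⟩ := hth c i
        rw [← hy, ← A.δ_θ, hxc, hxP i y (Δ.mem_Pan_of_δ hy)]
      intro w
      obtain ⟨ω, rfl⟩ := cs.wordProd_surjective w
      induction ω with
      | nil => simp
      | cons i ω ih => rw [cs.wordProd_cons, map_mul, ih, h1]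
    have hiso : ∀ a b, Δ.δ (A.θ x a) (A.θ x b) = Δ.δ a b := fun a b => by rw [A.δ_θ, hφ]
    -- `x` fixes `d`
    have hxd : A.θ x d = d := by
      set J := op cs '' L with hJdef
      have hJ : A.Inv J := hL.op
      have hJu : J ≠ Set.univ := by
        intro h1
        apply hLu
        have h2 := F.WJ_op_op L
        rw [← hJdef, h1] at h2
        rw [Set.eq_univ_iff_forall]
        intro i
        have h3 : cs.simple i ∈ WJ cs L := by
          rw [← h2]
          have h4 : cs.simple (op cs i) ∈ WJ cs (Set.univ : Set I) := simple_mem_WJ cs (Set.mem_univ _)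
          have h5 := F.conj_mem_op h4
          rwa [F.op, F.conj_cancel] at h5
        apply F.descent_mem L _ h3 i
        rw [cs.simple_mul_simple_self, cs.length_one, cs.length_simple]
        exact Nat.one_pos
      have hR : OppRes.OppR Δ J c d := OppRes.OppR.of_opp J hd
      have hdR : A.θ x d ∈ Δ.Res (op cs '' J) d := by
        rw [mem_Res, F.WJ_op_op]
        exact hRL x hxR'
      have h1 := OppRes.twist hR hdR
      -- the projections are equal
      have h2 : Δ.proj J c (A.θ x d) = Δ.proj J c d := by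
        apply Δ.proj_eq_of_isProj
        have h3 := Δ.isProj_proj J c d
        have h4 : ∀ a ∈ Δ.Res J c, Δ.δ (A.θ x d) a = Δ.δ d a := by
          intro a ha
          rw [← hxJ J hJ hJu a ha, hiso, hxJ J hJ hJu a ha]
        refine ⟨h3.1, fun a ha => ?_⟩
        rw [h4 a ha, h4 _ h3.1]
        exact h3.2 a ha
      rw [h2, Δ.δ_self] at h1
      have h3 : Δ.δ d (A.θ x d) = 1 := by
        have h4 := h1.symm
        rw [mul_inv_eq_one] at h4
        exact mul_eq_left.1 h4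
      exact (Δ.eq_of_δ_eq_one h3).symm
    -- `x` fixes all chambers
    have hall : ∀ y, A.θ x y = y := by
      intro y
      refine Rigid.rigid (Δ := Δ) (Δ' := Δ) hth (φ := fun y => A.θ x y) (ψ := fun y => y) (J := Set.univ) (c := c)
        (d := d) (fun a _ b _ => hiso a b) (fun a _ b _ => rfl) (fun i _ y hy => hxP i y hy) hd hxd y ?_
      rw [Δ.Res_univ]; trivial
    -- `x` centralises `K`
    apply hC
    intro k hk
    have h1 : (MulAut.conjNormal x ⟨k, hk⟩ : K) = ⟨k, hk⟩ := by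
      rw [← mul_inv_eq_one]
      apply eq_one_of_smul S hth
      intro y
      rw [mul_smul]
      have h2 := θ_conj A S x ⟨k, hk⟩ ((⟨k, hk⟩ : K)⁻¹ • y)
      rw [smul_inv_smul, hall, hall] at h2
      exact h2.symm
    have h2 := congrArg Subtype.val h1
    rw [MulAut.conjNormal_apply] at h2
    exact mul_inv_eq_iff_eq_mul.1 h2

end Cfsg.Agent.Omega.ML.LieRow

end
end
end
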