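import Cfsg.Agent.Mrg.Omega.ML.LieRow.Bld
import Cfsg.Agent.Mrg.Omega.NOThree.NoOver
import Cfsg.Agent.Mrg.Omega.ML.InOf
import Cfsg.Agent.Prune
set_option linter.all false
prune_inst 0x7f00000000000000000000000000000000000000000000000000000000000000000000000000000000000000000000000000000000000000000000000000000000000000000000000000000000000000003fffffffffffffffffffffffffffbeffbdffffffff
open scoped Cfsg.Agent.FastGrp


/-!
# (ML), the rows with an opposite Sylow group

* `exists_functional` : a 2-group fixes a functional `≠ 1` of a nontrivial module;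
* `In.false_of_oppSyl` : the situation `In` is impossible if `OppSyl` holds for the image of `T` in `H / C_H(K)`;
* `OppG 𝒮` : `OppSyl` for the almost simple groups with socle in `𝒮`; **`OppG.dead`** : `OppG 𝒮 → Dead 𝒮`.
-/

set_option autoImplicit false

namespace Cfsg.Agent.Omega.ML.LieRow

open Subgroup Cfsg Cfsg.Agent.ZN Cfsg.Agent.Omega.NOThree.NoOver Cfsg.Agent.Omega.ML.CD Cfsg.Agent.Omega.ML.Rows
  Cfsg.Agent.Omega.ML.Dual

universe u v

/-- a 2-group fixes a functional -/
theorem exists_functional {H : Type*} [Group H] {M : Type*} [Group M] [Finite M] [MulDistribMulAction H M] [Finite H]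
    (sq : ∀ m : M, m * m = 1) (hM : Nontrivial M) {T : Subgroup H} (hT : IsPGroup 2 T) :
    ∃ u : M → ℤˣ, (∀ w w', u (w * w') = u w * u w') ∧ (∃ w, u w ≠ 1) ∧ ∀ t ∈ T, ∀ w, u (t • w) = u w := by
  classical
  have : Fact (Nat.Prime 2) := ⟨Nat.prime_two⟩
  -- a hyperplane
  have hM2 : IsPGroup 2 M := fun m => ⟨1, by rw [pow_one, pow_two, sq]⟩
  obtain ⟨n, hn⟩ := IsPGroup.iff_card.1 hM2
  have hn0 : n ≠ 0 := by
    rintro rfl
    rw [pow_zero] at hn
    exact absurd hn (Finite.one_lt_card (α := M)).ne'
  obtain ⟨k, rfl⟩ := Nat.exists_eq_succ_of_ne_zero hn0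
  obtain ⟨W, hW⟩ := Sylow.exists_subgroup_card_pow_prime 2 (n := k) (G := M) (by rw [hn]; exact pow_dvd_pow 2 (Nat.le_succ k))
  have hidx : W.index = 2 := by
    have h1 := Subgroup.card_mul_index W
    rw [hW, hn, Nat.succ_eq_add_one, pow_succ] at h1
    exact Nat.eq_of_mul_eq_mul_left (by positivity) h1
  let f₀ : M →* ℤˣ := MonoidHom.mk' (fun m => if m ∈ W then 1 else -1) (by
    intro a b
    have h1 := mul_mem_iff_of_index_two hidx (a := a) (b := b)
    by_cases h2 : a ∈ W <;> by_cases h3 : b ∈ W <;> simp [h2, h3] at h1 <;> simp [h1, h2, h3])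
  have hf₀ : f₀ ≠ 1 := by
    intro h
    have h1 : W = ⊤ := by
      rw [eq_top_iff]
      intro m _
      by_contra hm
      have h2 : f₀ m = -1 := if_neg hm
      rw [h, MonoidHom.one_apply] at h2
      exact absurd h2 (by decide)
    rw [h1, index_top] at hidx
    exact absurd hidx (by decide)
  -- the dual module
  let _ : MulAction T (M →* ℤˣ) :=
    { smul := fun t f => f.comp (MulDistribMulAction.toMonoidHom M ((t : H)⁻¹))
      one_smul := fun f => by
        ext m
        change ((f (((1 : T) : H)⁻¹ • m) : ℤˣ) : ℤ) = f m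
        rw [OneMemClass.coe_one, inv_one, one_smul]
      mul_smul := fun s t f => by
        ext m
        change ((f (((s * t : T) : H)⁻¹ • m) : ℤˣ) : ℤ) = f (((t : H)⁻¹) • ((s : H)⁻¹) • m)
        rw [Subgroup.coe_mul, _root_.mul_inv_rev, mul_smul] }
  have hsm : ∀ (t : T) (f : M →* ℤˣ) (m : M), (t • f) m = f ((t : H)⁻¹ • m) := fun _ _ _ => rfl
  have hfin : Finite (M →* ℤˣ) := DFunLike.finite _
  have hcard : 2 ∣ Nat.card (M →* ℤˣ) := by
    have h1 : orderOf f₀ = 2 := by
      refine orderOf_eq_prime ?_ hf₀
      ext m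
      rw [MonoidHom.pow_apply, MonoidHom.one_apply]
      rcases Int.units_eq_one_or (f₀ m) with h | h <;> rw [h] <;> rfl
    rw [← h1]
    exact orderOf_dvd_natCard f₀
  have h1 : (1 : M →* ℤˣ) ∈ MulAction.fixedPoints T (M →* ℤˣ) := by
    intro t
    ext m
    rw [hsm]
    rfl
  obtain ⟨u, hu, hne⟩ := hT.exists_fixed_point_of_prime_dvd_card_of_fixed_point (M →* ℤˣ) hcard h1
  refine ⟨u, fun w w' => map_mul u w w', ?_, ?_⟩
  · by_contra hcon
    push Not at hcon
    exact hne (MonoidHom.ext fun w => (hcon w).symm)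
  · intro t ht w
    have h2 := DFunLike.congr_fun (hu (⟨t, ht⟩⁻¹ : T)) w
    rw [hsm] at h2
    rw [← h2]
    congr 1
    rw [Subgroup.coe_inv, inv_inv]

/-- **The situation `In` is impossible if there is an opposite Sylow group.** -/
theorem In.false_of_oppSyl {H : Type u} [Group H] [Finite H] {M : Type v} [Group M] [Finite M] [MulDistribMulAction H M]
    {K T A : Subgroup H} (h : In H M K T A) (hZ : (centralizer (K : Set H)).Normal)
    (ho : OppSyl (T.map (QuotientGroup.mk' (centralizer (K : Set H))))) : False := by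
  have : Fact (Nat.Prime 2) := ⟨Nat.prime_two⟩
  have has := h.as hZ
  set π := QuotientGroup.mk' (centralizer (K : Set H)) with hπ
  have hs : Function.Surjective π := QuotientGroup.mk'_surjective _
  have hker : π.ker = centralizer (K : Set H) := QuotientGroup.ker_mk' _
  have hA2 : IsPGroup 2 A := fun a => ⟨1, Subtype.ext (by rw [pow_one, pow_two]; exact h.el a a.2)⟩
  rcases ho with ho | ⟨T', hT', -, hopp⟩
  · exact has.nmax ho
  -- a Sylow 2-subgroup of the preimage
  obtain ⟨P⟩ := (inferInstance : Nonempty (Sylow 2 (T'.comap π)))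
  set T₁ : Subgroup H := (P : Subgroup (T'.comap π)).map (T'.comap π).subtype with hT₁
  have hT₁2 : IsPGroup 2 T₁ := P.isPGroup'.map _
  have hT₁map : T' ≤ T₁.map π := by
    -- the index of `T₁.map π` in `T'` is odd and a power of two
    have h1 : T₁.map π ≤ T' := by
      rw [map_le_iff_le_comap]
      exact map_subtype_le _
    have h2 : ¬ 2 ∣ T₁.relIndex (T'.comap π) := by
      rw [relIndex, hT₁, subgroupOf, comap_map_eq_self_of_injective (subtype_injective _)]
      exact P.not_dvd_index
    have h3 : (T₁.map π).relIndex T' ∣ T₁.relIndex (T'.comap π) := by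
      have h4 : T' = (T'.comap π).map π := (map_comap_eq_self_of_surjective hs T').symm
      have h5 : (T₁.map π).relIndex T' = (T₁ ⊔ π.ker).relIndex (T'.comap π) := by
        conv_lhs => rw [h4]
        rw [relIndex_map_map, sup_eq_left.2 (ker_le_comap π T')]
      rw [h5]
      exact relIndex_dvd_of_le_left (T'.comap π) le_sup_left
    have h5 : (T₁.map π).relIndex T' = 1 := by
      obtain ⟨n, hn⟩ := (hT'.index ((T₁.map π).subgroupOf T'))
      rcases Nat.eq_zero_or_pos n with h0 | h0
      · rw [h0, pow_zero] at hn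
        exact hn
      · exfalso
        apply h2
        refine dvd_trans ?_ h3
        rw [relIndex, hn]
        exact dvd_pow_self 2 h0.ne'
    exact relIndex_eq_one.1 h5
  have hMn : Nontrivial M := by
    by_contra hM
    rw [not_nontrivial_iff_subsingleton] at hM
    have h1 : Subsingleton H := ⟨fun a b => by
      rw [h.faith a fun m => Subsingleton.elim _ _, h.faith b fun m => Subsingleton.elim _ _]⟩
    have h2 := h.eight
    have h3 : Nat.card A = 1 := Nat.card_unique
    omega
  obtain ⟨u, hu, ⟨w₀, hw₀⟩, hfix⟩ := exists_functional h.sq hMn hT₁2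
  -- the stabiliser of the functional
  let R : Subgroup H :=
    { carrier := {x | ∀ w, u (x • w) = u w}
      one_mem' := fun w => by rw [one_smul]
      mul_mem' := fun {a b} ha hb w => by rw [mul_smul, ha, hb]
      inv_mem' := fun {a} ha w => by
        have := ha (a⁻¹ • w)
        rw [smul_inv_smul] at this
        exact this.symm }
  have hT₁R : T₁ ≤ R := hfix
  have hR : R ≠ ⊤ := by
    intro hR
    have hall : ∀ x : H, ∀ w, u (x • w) = u w := fun x => (show x ∈ R by rw [hR]; trivial)
    have hu1 : u 1 = 1 := by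
      have := hu 1 1
      rw [mul_one] at this
      exact (mul_eq_left.1 this.symm)
    let W : Subgroup M :=
      { carrier := {w | u w = 1}
        one_mem' := hu1
        mul_mem' := fun {a b} (ha : u a = 1) (hb : u b = 1) => by
          change u (a * b) = 1
          rw [hu, ha, hb, mul_one]
        inv_mem' := fun {a} (ha : u a = 1) => by
          change u a⁻¹ = 1
          have h1 := hu a a⁻¹
          rw [mul_inv_cancel, hu1, ha, one_mul] at h1
          exact h1.symm }
    have hWm : ∀ w, w ∈ W ↔ u w = 1 := fun _ => Iff.rfl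
    rcases h.irr W (fun x w hw => by rw [hWm, hall, ← hWm]; exact hw) with h1 | h1
    · -- `M` has order two
      have h2 : ∀ a b : M, a ≠ 1 → b ≠ 1 → a = b := by
        intro a b ha hb
        have h3 : u a = -1 := by
          rcases Int.units_eq_one_or (u a) with h4 | h4
          · exact absurd (mem_bot.1 (h1 ▸ (hWm a).2 h4)) ha
          · exact h4
        have h4 : u b = -1 := by
          rcases Int.units_eq_one_or (u b) with h5 | h5
          · exact absurd (mem_bot.1 (h1 ▸ (hWm b).2 h5)) hb
          · exact h5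
        have h5 : a * b ∈ W := by
          rw [hWm, hu, h3, h4]; decide
        rw [h1, mem_bot] at h5
        rw [← mul_inv_eq_one, inv_eq_of_mul_eq_one_right (h.sq b)]
        exact h5
      have h3 : Subsingleton H := ⟨fun a b => by
        have key : ∀ x : H, x = 1 := fun x => h.faith x fun m => by
          by_cases hm : m = 1
          · rw [hm, smul_one]
          · refine h2 _ _ ?_ hm
            intro h4
            apply hm
            rw [← inv_smul_smul x m, h4, smul_one]
        rw [key a, key b]⟩
      have h4 := h.eight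
      have h5 : Nat.card A = 1 := Nat.card_unique
      omega
    · apply hw₀
      rw [← hWm, h1]; trivial
  have hRmap : R.map π ≠ ⊤ := by
    intro h1
    apply hR
    apply h.eq_top_of_sup
    rw [← hker, ← comap_map_eq, h1, comap_top]
  -- `C_A(u) = 1`
  have hreg : ∀ a ∈ A, (∀ w, u (a • w) = u w) → a = 1 := by
    intro a ha hau
    have h1 : π a = 1 := by
      refine hopp (π a) (fun Q hTQ hQ => has.low Q hTQ hQ (mem_map_of_mem π ha)) (R.map π)
        (hT₁map.trans (map_mono hT₁R)) hRmap (mem_map_of_mem π (show a ∈ R from hau))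
    have h2 : a ∈ A ⊓ centralizer (K : Set H) := ⟨ha, by rw [← hker]; exact h1⟩
    rw [h.inf_eq_bot A hA2, mem_bot] at h2
    exact h2
  have hstrict : Strict (fo M) A := by
    have h1 : ∀ B : Subgroup H, fab M 1 1 B = fo M B := by
      intro B
      unfold fab fo
      rw [pow_one, pow_one]
    intro B hB
    rw [← h1, ← h1]
    exact h.strict B hB
  have hmove : ∃ a ∈ A, ∃ w : M, a • w ≠ w := by
    by_contra hcon
    push Not at hcon
    have h1 : A = ⊥ := by
      rw [eq_bot_iff]
      intro a ha
      exact mem_bot.2 (h.faith a (hcon a ha))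
    have h2 := h.eight
    rw [h1, card_bot] at h2
    omega
  obtain ⟨a, ha, hne, hau⟩ := exists_fix_ne_one hstrict hmove hu
  exact hne (hreg a ha hau)

/-- `OppSyl` for the almost simple groups `X = S A` with socle in the class `𝒮`. -/
def OppG (𝒮 : ∀ (S : Type u) [Group S], Prop) : Prop :=
  ∀ (X : Type u) [Group X] [Finite X] (S T : Subgroup X), S.Normal → IsSimpleGroup S → centralizer (S : Set X) = ⊥ →
    IsPGroup 2 T → ¬ 2 ∣ T.index → S ⊔ T = ⊤ → 𝒮 S → OppSyl T

/-- **A row with opposite Sylow groups is dead.** -/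
theorem OppG.dead {𝒮 : ∀ (S : Type u) [Group S], Prop} (h𝒮 : IsoClosed.{u} 𝒮) (hD : OppG.{u} 𝒮) :
    Dead.{u, v} 𝒮 := by
  intro H _ _ M _ _ _ K T A h hK
  have hZ := h.normalZ
  have has := h.as hZ
  refine In.false_of_oppSyl h hZ (hD _ _ _ has.norm has.simple has.cen has.two has.syl ?_ (h𝒮 _ _ (equivZ hZ) hK))
  have hT : T ≠ ⊤ := by
    intro h1
    have h2 := has.ne_top
    apply h2
    rw [h1, map_top_of_surjective _ (QuotientGroup.mk'_surjective _)]
  rw [eq_top_iff, ← has.gen]
  refine sup_le_sup le_rfl ?_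
  exact (has.low _ le_rfl has.ne_top).trans (MinSimple.VModule.o2_le _)

end Cfsg.Agent.Omega.ML.LieRow
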